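import Groth.Prelude.Def_QFDual
import Mathlib.RingTheory.TensorProduct.IsBaseChangeFree
import Mathlib

/-!
Base change of differents of finite free algebras.
-/

set_option autoImplicit false

universe u

open TensorProduct

namespace Groth.Agent.QFDual.DiffBC

variable {A B : Type u} [CommRing A] [CommRing B] [Algebra A B] [Module.Finite A B] [Module.Free A B]

/-- The coordinate forms. -/
noncomputable def co (j : Module.Free.ChooseBasisIndex A B) : Disc.Omega A B :=
  ⟨(Module.Free.chooseBasis A B).coord j⟩

theorem sum_co (φ : Disc.Omega A B) :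
    ∑ j, algebraMap A B (φ.toLinearMap (Module.Free.chooseBasis A B j)) • co j = φ := by
  let bs := Module.Free.chooseBasis A B
  apply Disc.Omega.ext
  refine LinearMap.ext fun x => ?_
  have hs : ∀ (s : Finset (Module.Free.ChooseBasisIndex A B)) (F : _ → Disc.Omega A B),
      (∑ j ∈ s, F j).toLinearMap x = ∑ j ∈ s, (F j).toLinearMap x := fun s F =>
    map_sum (AddMonoidHom.mk' (fun ψ : Disc.Omega A B => ψ.toLinearMap x) fun _ _ => rfl) F s
  rw [hs]
  conv_rhs => rw [← bs.sum_repr x, map_sum]
  refine Finset.sum_congr rfl fun j _ => ?_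
  show bs.coord j (algebraMap A B (φ.toLinearMap (bs j)) * x) = φ.toLinearMap (bs.repr x j • bs j)
  rw [← Algebra.smul_def, map_smul, map_smul, smul_eq_mul, smul_eq_mul, mul_comm]
  rfl

theorem finite_omega : Module.Finite B (Disc.Omega A B) :=
  ⟨Submodule.fg_def.2 ⟨Set.range (co (A := A) (B := B)), Set.finite_range _, eq_top_iff.2 fun φ _ => by
    rw [← sum_co φ]
    exact Submodule.sum_mem _ fun j _ => Submodule.smul_mem _ _ (Submodule.subset_span ⟨j, rfl⟩)⟩⟩

variable {A' B' : Type u} [CommRing A'] [CommRing B'] [Algebra A A'] [Algebra B B'] [Algebra A' B']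
  [Algebra A B'] [IsScalarTower A A' B'] [IsScalarTower A B B'] (hB : Algebra.IsPushout A A' B B')
  [Module.Finite A' B'] [Module.Free A' B']

theorem bcFin_trace : QFDual.bcFin hB (Disc.Omega.trace A B) = Disc.Omega.trace A' B' := by
  classical
  apply Disc.Omega.ext
  refine hB.out.algHom_ext _ _ fun x => ?_
  show (QFDual.bcFin hB (Disc.Omega.trace A B)).toLinearMap (algebraMap B B' x) =
    Algebra.trace A' B' (algebraMap B B' x)
  rw [QFDual.bcFin_apply_algebraMap]
  let bs := Module.Free.chooseBasis A B
  let bs' := hB.out.basis bs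
  rw [Algebra.trace_eq_matrix_trace bs', show (Disc.Omega.trace A B).toLinearMap x = Algebra.trace A B x from rfl,
    Algebra.trace_eq_matrix_trace bs, AddMonoidHom.map_trace]
  refine congrArg Matrix.trace (Matrix.ext fun i j => ?_)
  rw [Matrix.map_apply, Algebra.leftMulMatrix_eq_repr_mul, Algebra.leftMulMatrix_eq_repr_mul,
    show bs' j = algebraMap B B' (bs j) from hB.out.basis_apply bs j, ← map_mul]
  exact (hB.out.basis_repr_comp_apply bs (x * bs j) i).symm

theorem span_bcFin (ψ : Disc.Omega A' B') :
    ∑ j, algebraMap A' B' (ψ.toLinearMap (algebraMap B B' (Module.Free.chooseBasis A B j))) •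
      QFDual.bcFin hB (co j) = ψ := by
  classical
  let bs := Module.Free.chooseBasis A B
  apply Disc.Omega.ext
  refine hB.out.algHom_ext _ _ fun x => ?_
  show _ = ψ.toLinearMap (algebraMap B B' x)
  have hs : ∀ (s : Finset (Module.Free.ChooseBasisIndex A B)) (F : _ → Disc.Omega A' B') (y : B'),
      (∑ j ∈ s, F j).toLinearMap y = ∑ j ∈ s, (F j).toLinearMap y := fun s F y =>
    map_sum (AddMonoidHom.mk' (fun ψ : Disc.Omega A' B' => ψ.toLinearMap y) fun _ _ => rfl) F s
  show _ = _
  rw [hs]
  conv_rhs => rw [← bs.sum_repr x, map_sum, map_sum]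
  refine Finset.sum_congr rfl fun j _ => ?_
  show (QFDual.bcFin hB (co j)).toLinearMap
    (algebraMap A' B' (ψ.toLinearMap (algebraMap B B' (bs j))) * algebraMap B B' x) =
    ψ.toLinearMap (algebraMap B B' (bs.repr x j • bs j))
  rw [← Algebra.smul_def, map_smul, QFDual.bcFin_apply_algebraMap, Algebra.smul_def (bs.repr x j),
    map_mul, ← IsScalarTower.algebraMap_apply A B B', ← Algebra.smul_def, LinearMap.map_smul_of_tower,
    smul_eq_mul, Algebra.smul_def, mul_comm]
  rfl

include hB in
/-- Every `B`-linear map from the dualizing module to a `B'`-module sees the different after base change. -/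
theorem key {R : Type*} [AddCommGroup R] [Module B R] [Module B' R] [IsScalarTower B B' R]
    (Λ : Disc.Omega A B →ₗ[B] R) {b' : B'} (hb : b' ∈ QFDual.different B' (Disc.Omega.trace A' B'))
    (φ : Disc.Omega A B) : ∃ c : B', b' • Λ φ = c • Λ (Disc.Omega.trace A B) := by
  classical
  obtain ⟨c, hc⟩ := (QFDual.mem_different_iff B' _ b').1 hb (QFDual.bcFin hB φ)
  refine ⟨c, ?_⟩
  let bs := Module.Free.chooseBasis A B
  let Λ' : Disc.Omega A' B' →+ R :=
    AddMonoidHom.mk' (fun ψ => ∑ j, algebraMap A' B' (ψ.toLinearMap (algebraMap B B' (bs j))) • Λ (co j))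
      fun ψ₁ ψ₂ => by
        rw [← Finset.sum_add_distrib]
        exact Finset.sum_congr rfl fun j _ => by
          rw [Disc.Omega.add_toLinearMap, LinearMap.add_apply, map_add, add_smul]
  have h1 : ∀ φ, Λ' (QFDual.bcFin hB φ) = Λ φ := fun φ => by
    conv_rhs => rw [← sum_co φ, map_sum]
    refine Finset.sum_congr rfl fun j _ => ?_
    show algebraMap A' B' ((QFDual.bcFin hB φ).toLinearMap (algebraMap B B' (bs j))) • _ = _
    rw [QFDual.bcFin_apply_algebraMap, map_smul, ← IsScalarTower.algebraMap_apply A A' B',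
      IsScalarTower.algebraMap_apply A B B', algebraMap_smul]
  have h2 : ∀ (x : B') (φ : Disc.Omega A B), Λ' (x • QFDual.bcFin hB φ) = x • Λ φ := fun x φ => by
    refine hB.out.inductionOn x (fun x => Λ' (x • QFDual.bcFin hB φ) = x • Λ φ) ?_ ?_ ?_ ?_
    · simp
    · intro b
      show Λ' (algebraMap B B' b • QFDual.bcFin hB φ) = algebraMap B B' b • Λ φ
      rw [show algebraMap B B' b • QFDual.bcFin hB φ = QFDual.bcFin hB (b • φ) from
        ((QFDual.bcFin hB).map_smulₛₗ b φ).symm, h1, map_smul, algebraMap_smul]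
    · intro a y hy
      show Λ' ((a • y) • QFDual.bcFin hB φ) = (a • y) • Λ φ
      rw [Algebra.smul_def, mul_smul, mul_smul, ← hy]
      show ∑ j, _ = algebraMap A' B' a • ∑ j, _
      rw [Finset.smul_sum]
      refine Finset.sum_congr rfl fun j _ => ?_
      rw [Disc.Omega.smul_toLinearMap_apply, ← Algebra.smul_def, map_smul, smul_eq_mul, map_mul, mul_smul]
    · intro y z hy hz
      show Λ' ((y + z) • QFDual.bcFin hB φ) = (y + z) • Λ φ
      rw [add_smul, map_add, hy, hz, add_smul]
  rw [← h2 b' φ, ← h2 c (Disc.Omega.trace A B), bcFin_trace hB, hc]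

include hB in
theorem map_le : Ideal.map (algebraMap B B') (QFDual.different B (Disc.Omega.trace A B)) ≤
    QFDual.different B' (Disc.Omega.trace A' B') := by
  refine Ideal.map_le_iff_le_comap.2 fun b hb => ?_
  rw [Ideal.mem_comap, QFDual.mem_different_iff]
  intro ψ
  have hj : ∀ j, ∃ c : B', c • Disc.Omega.trace A' B' = algebraMap B B' b • QFDual.bcFin hB (co j) := fun j => by
    obtain ⟨c, hc⟩ := (QFDual.mem_different_iff B _ b).1 hb (co j)
    exact ⟨algebraMap B B' c, by rw [← bcFin_trace hB, ← (QFDual.bcFin hB).map_smulₛₗ, hc, LinearMap.map_smulₛₗ]⟩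
  choose c hc using hj
  refine ⟨∑ j, algebraMap A' B' (ψ.toLinearMap (algebraMap B B' (Module.Free.chooseBasis A B j))) * c j, ?_⟩
  conv_rhs => rw [← span_bcFin hB ψ]
  rw [Finset.sum_smul, Finset.smul_sum]
  exact Finset.sum_congr rfl fun j _ => by rw [mul_smul, hc, smul_comm]

variable (A B) in
/-- The cokernel of the trace element. -/
abbrev Coker : Type u := Disc.Omega A B ⧸ (B ∙ Disc.Omega.trace A B)

theorem key_coker {R : Type*} [AddCommGroup R] [Module B R] [Module B' R] [IsScalarTower B B' R]
    (Λ : Coker A B →ₗ[B] R) {b' : B'} (hb : b' ∈ QFDual.different B' (Disc.Omega.trace A' B'))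
    (m : Coker A B) (hB : Algebra.IsPushout A A' B B') : b' • Λ m = 0 := by
  obtain ⟨φ, rfl⟩ := Submodule.Quotient.mk_surjective _ m
  obtain ⟨c, hc⟩ := key hB (Λ ∘ₗ Submodule.mkQ _) hb φ
  rw [LinearMap.comp_apply, LinearMap.comp_apply, Submodule.mkQ_apply, Submodule.mkQ_apply,
    (Submodule.Quotient.mk_eq_zero _).2 (Submodule.mem_span_singleton_self _), map_zero, smul_zero] at hc
  exact hc

theorem mem_different_iff_coker {b : B} :
    b ∈ QFDual.different B (Disc.Omega.trace A B) ↔ ∀ j, b • (Submodule.Quotient.mk (co j) : Coker A B) = 0 := by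
  simp only [← Submodule.Quotient.mk_smul, Submodule.Quotient.mk_eq_zero, Submodule.mem_span_singleton]
  rw [QFDual.mem_different_iff]
  refine ⟨fun h j => h _, fun h φ => ?_⟩
  choose c hc using h
  refine ⟨∑ j, algebraMap A B (φ.toLinearMap (Module.Free.chooseBasis A B j)) * c j, ?_⟩
  conv_rhs => rw [← sum_co φ]
  rw [Finset.sum_smul, Finset.smul_sum]
  exact Finset.sum_congr rfl fun j _ => by rw [mul_smul, hc, smul_comm]

include hB in
theorem le_map_of_flat [Module.Flat A A'] :
    QFDual.different B' (Disc.Omega.trace A' B') ≤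
      Ideal.map (algebraMap B B') (QFDual.different B (Disc.Omega.trace A B)) := by
  intro b' hb
  haveI : Module.Flat B B' := Module.Flat.isBaseChange A B A' B' hB.symm.out
  let g : B →ₗ[B] (Module.Free.ChooseBasisIndex A B → Coker A B) :=
    LinearMap.toSpanSingleton B _ (fun j => Submodule.Quotient.mk (co j))
  have hz : g.lTensor B' (b' ⊗ₜ[B] (1 : B)) = 0 := by
    classical
    rw [LinearMap.lTensor_tmul]
    refine (TensorProduct.piRight B B B' _).injective ?_
    rw [map_zero]
    funext j
    rw [TensorProduct.piRight_apply, TensorProduct.piRightHom_tmul]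
    show b' ⊗ₜ[B] ((1 : B) • (Submodule.Quotient.mk (co j) : Coker A B)) = 0
    rw [one_smul]
    have h := key_coker (TensorProduct.mk B B' (Coker A B) 1) hb (Submodule.Quotient.mk (co j)) hB
    rw [TensorProduct.mk_apply, TensorProduct.smul_tmul', smul_eq_mul, mul_one] at h
    exact h
  obtain ⟨x, hx⟩ := ((Module.Flat.lTensor_exact B' (LinearMap.exact_subtype_ker_map g)) _).1 hz
  have hb' : (TensorProduct.rid B B') ((LinearMap.ker g).subtype.lTensor B' x) = b' := by
    rw [hx, TensorProduct.rid_tmul, one_smul]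
  rw [← hb']
  clear hx hb'
  induction x using TensorProduct.induction_on with
  | zero => simp
  | add y z hy hz => rw [map_add, map_add]; exact Ideal.add_mem _ hy hz
  | tmul a d =>
    rw [LinearMap.lTensor_tmul, TensorProduct.rid_tmul, Algebra.smul_def]
    refine Ideal.mul_mem_right _ _ (Ideal.mem_map_of_mem _ (mem_different_iff_coker.2 fun j => ?_))
    exact congrFun (LinearMap.mem_ker.1 d.2) j

include hB in
theorem le_map_of_invertible [Module.Invertible B (Disc.Omega A B)] :
    QFDual.different B' (Disc.Omega.trace A' B') ≤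
      Ideal.map (algebraMap B B') (QFDual.different B (Disc.Omega.trace A B)) := by
  intro b' hb
  let τ := Disc.Omega.trace A B
  have hev : ∀ f : Module.Dual B (Disc.Omega A B), f τ ∈ QFDual.different B τ := by
    have hr : ∀ g : Module.Dual B (Disc.Omega A B), ∃ r ∈ QFDual.different B τ, ∀ y, r • y = g y • τ := fun g => by
      obtain ⟨r, hr⟩ := (Module.Invertible.toModuleEnd_bijective B (Disc.Omega A B)).2 (g.smulRight τ)
      have hr' : ∀ y, r • y = g y • τ := fun y => LinearMap.congr_fun hr y
      exact ⟨r, (QFDual.mem_different_iff B _ r).2 fun y => ⟨g y, (hr' y).symm⟩, hr'⟩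
    intro f
    have hall : ∀ t, f τ * Module.Invertible.linearEquiv B (Disc.Omega A B) t ∈ QFDual.different B τ := fun t => by
      induction t using TensorProduct.induction_on with
      | zero => simp
      | add y z hy hz => rw [map_add, mul_add]; exact Ideal.add_mem _ hy hz
      | tmul g m =>
        obtain ⟨r, hr, hr'⟩ := hr g
        show f τ * g m ∈ _
        rw [mul_comm, ← smul_eq_mul, ← map_smul, ← hr', map_smul, smul_eq_mul]
        exact Ideal.mul_mem_right _ _ hr
    obtain ⟨t, ht⟩ := (Module.Invertible.linearEquiv B (Disc.Omega A B)).surjective 1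
    have := hall t
    rwa [ht, mul_one] at this
  have hall : ∀ t, b' * algebraMap B B' (Module.Invertible.linearEquiv B (Disc.Omega A B) t) ∈
      Ideal.map (algebraMap B B') (QFDual.different B τ) := fun t => by
    induction t using TensorProduct.induction_on with
    | zero => simp
    | add y z hy hz => rw [map_add, map_add, mul_add]; exact Ideal.add_mem _ hy hz
    | tmul g m =>
      obtain ⟨c, hc⟩ := key hB ((Algebra.linearMap B B') ∘ₗ g) hb m
      show b' * algebraMap B B' (g m) ∈ _
      rw [show b' * algebraMap B B' (g m) = c * algebraMap B B' (g τ) from hc]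
      exact Ideal.mul_mem_left _ _ (Ideal.mem_map_of_mem _ (hev g))
  obtain ⟨t, ht⟩ := (Module.Invertible.linearEquiv B (Disc.Omega A B)).surjective 1
  have := hall t
  rwa [ht, map_one, mul_one] at this

include hB in
theorem le_radical : QFDual.different B' (Disc.Omega.trace A' B') ≤
    (Ideal.map (algebraMap B B') (QFDual.different B (Disc.Omega.trace A B))).radical := by
  rw [Ideal.radical_eq_sInf]
  refine le_sInf fun P hP b' hb => ?_
  obtain ⟨hle, hPp⟩ := hP
  by_contra hb'
  let p : PrimeSpectrum B := ⟨P.comap (algebraMap B B'), Ideal.IsPrime.comap _⟩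
  haveI := finite_omega (A := A) (B := B)
  have hann : Module.annihilator B (Coker A B) ≤ p.asIdeal := by
    intro b hb₀
    exact Ideal.map_le_iff_le_comap.1 hle (mem_different_iff_coker.2 fun j => Module.mem_annihilator.1 hb₀ _)
  have hsupp : p ∈ Module.support B (Coker A B) := by
    rw [Module.support_eq_zeroLocus]
    exact hann
  rw [Module.mem_support_iff_nontrivial_residueField_tensorProduct] at hsupp
  obtain ⟨v, hv⟩ := exists_ne (0 : p.asIdeal.ResidueField ⊗[B] Coker A B)
  obtain ⟨lam, hlam⟩ := Module.Projective.exists_dual_ne_zero p.asIdeal.ResidueField hv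
  obtain ⟨m, hm⟩ : ∃ m : Coker A B, lam (1 ⊗ₜ[B] m) ≠ 0 := by
    by_contra hcon
    push_neg at hcon
    apply hlam
    rw [show lam = 0 from TensorProduct.AlgebraTensorModule.curry_injective (LinearMap.ext_ring (LinearMap.ext hcon))]
    rfl
  let ρ : p.asIdeal.ResidueField →+* P.ResidueField := Ideal.ResidueField.map p.asIdeal P (algebraMap B B') rfl
  let ρ' : p.asIdeal.ResidueField →ₗ[B] P.ResidueField :=
    { ρ.toAddMonoidHom with
      map_smul' := fun b x => by
        show ρ (b • x) = b • ρ x
        rw [Algebra.smul_def, Algebra.smul_def, map_mul, Ideal.ResidueField.map_algebraMap,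
          ← IsScalarTower.algebraMap_apply] }
  let Λ : Coker A B →ₗ[B] P.ResidueField :=
    ρ' ∘ₗ (lam.restrictScalars B) ∘ₗ TensorProduct.mk B p.asIdeal.ResidueField (Coker A B) 1
  have hz := key_coker Λ hb m hB
  rw [Algebra.smul_def, mul_eq_zero] at hz
  rcases hz with hz | hz
  · exact hb' (Ideal.algebraMap_residueField_eq_zero.1 hz)
  · exact hm ((map_eq_zero_iff ρ ρ.injective).1 hz)

include hB in
theorem radical_eq : (Ideal.map (algebraMap B B') (QFDual.different B (Disc.Omega.trace A B))).radical =
    (QFDual.different B' (Disc.Omega.trace A' B')).radical :=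
  le_antisymm (Ideal.radical_mono (map_le hB)) (Ideal.radical_le_radical_iff.2 (le_radical hB))

end Groth.Agent.QFDual.DiffBC
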